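import Mathlib

/-!
# Project T9 (S5559) : definitions

Abstract configuration: a finite group `X` generated by a set `E` of involutions, closed under
conjugation by its members, any two of them with product of order dividing 3, the products
generating a 3-group, acting on an elementary abelian 2-group `V` (written additively) such that
`C_V(a * b) ≤ C_V(a)` for distinct `a b ∈ E`.
-/

set_option autoImplicit false

namespace Cfsg.Agent.Lib.Helper28.T9

/-- products of two members of `E` -/
def prodSet {X : Type*} [Group X] (E : Set X) : Set X := {g | ∃ a ∈ E, ∃ b ∈ E, g = a * b}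

/-- the subgroup generated by the products of two members of `E` -/
def prodSub {X : Type*} [Group X] (E : Set X) : Subgroup X := Subgroup.closure (prodSet E)

/-- the configuration -/
structure Cfg (X : Type*) [Group X] (V : Type*) [AddCommGroup V] [DistribMulAction X V]
    (E : Set X) : Prop where
  ne_one : ∀ a ∈ E, a ≠ 1
  sq : ∀ a ∈ E, a * a = 1
  conj : ∀ a ∈ E, ∀ b ∈ E, a * b * a ∈ E
  cube : ∀ a ∈ E, ∀ b ∈ E, (a * b) ^ 3 = 1
  gen : Subgroup.closure E = ⊤
  three : IsPGroup 3 (prodSub E)
  two : ∀ v : V, v + v = 0
  star : ∀ a ∈ E, ∀ b ∈ E, a ≠ b → ∀ v : V, (a * b) • v = v → a • v = v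

/-- faithfulness of an action, as a plain proposition -/
def Faith (X : Type*) [Group X] (V : Type*) [AddCommGroup V] [DistribMulAction X V] : Prop :=
  ∀ g : X, (∀ v : V, g • v = v) → g = 1

section kernel

variable (X : Type*) [Group X] (V : Type*) [AddCommGroup V] [DistribMulAction X V]

/-- the kernel of the action -/
def kerAct : Subgroup X where
  carrier := {g | ∀ v : V, g • v = v}
  one_mem' := fun v => one_smul X v
  mul_mem' := by
    intro g h hg hh v
    rw [mul_smul, hh v, hg v]
  inv_mem' := by
    intro g hg v
    have := congrArg (fun w => g⁻¹ • w) (hg v)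
    simp only [inv_smul_smul] at this
    exact this.symm

theorem mem_kerAct {g : X} : g ∈ kerAct X V ↔ ∀ v : V, g • v = v := Iff.rfl

instance kerAct_normal : (kerAct X V).Normal := by
  constructor
  intro n hn g v
  rw [mul_smul, mul_smul, hn (g⁻¹ • v), smul_inv_smul]

/-- the action of the quotient by the kernel -/
noncomputable instance quotAction : DistribMulAction (X ⧸ kerAct X V) V :=
  DistribMulAction.compHom V
    (QuotientGroup.lift (kerAct X V) (DistribMulAction.toAddMonoidEnd X V)
      (fun g hg => by
        rw [MonoidHom.mem_ker]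
        ext v
        exact hg v))

theorem mk_smul (g : X) (v : V) : ((g : X ⧸ kerAct X V)) • v = g • v := rfl

end kernel

section fixed

variable {X : Type*} [Group X] (M : Subgroup X) (V : Type*) [AddCommGroup V] [DistribMulAction X V]

/-- the fixed points of a subgroup -/
def fixedSub : AddSubgroup V where
  carrier := {v | ∀ m ∈ M, m • v = v}
  zero_mem' := fun m _ => smul_zero m
  add_mem' := by
    intro v w hv hw m hm
    rw [smul_add, hv m hm, hw m hm]
  neg_mem' := by
    intro v hv m hm
    rw [smul_neg, hv m hm]

theorem mem_fixedSub {v : V} : v ∈ fixedSub M V ↔ ∀ m ∈ M, m • v = v := Iff.rfl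

/-- a normal subgroup's fixed points are invariant under the whole group -/
theorem smul_mem_fixedSub [hM : M.Normal] (g : X) {v : V} (hv : v ∈ fixedSub M V) :
    g • v ∈ fixedSub M V := by
  intro m hm
  have h1 : g⁻¹ * m * g ∈ M := by
    have := hM.conj_mem m hm g⁻¹
    simpa using this
  have h2 := hv _ h1
  rw [mul_smul, mul_smul] at h2
  have h3 := congrArg (fun w => g • w) h2
  simp only [smul_inv_smul] at h3
  exact h3

/-- the action of `X` on the fixed points of a normal subgroup -/
instance fixedAction [M.Normal] : DistribMulAction X ↥(fixedSub M V) where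
  smul g u := ⟨g • (u : V), smul_mem_fixedSub M V g u.2⟩
  one_smul u := Subtype.ext (one_smul X (u : V))
  mul_smul g h u := Subtype.ext (mul_smul g h (u : V))
  smul_zero g := Subtype.ext (smul_zero g)
  smul_add g u w := Subtype.ext (smul_add g (u : V) (w : V))

theorem coe_smul_fixed [M.Normal] (g : X) (u : ↥(fixedSub M V)) :
    ((g • u : ↥(fixedSub M V)) : V) = g • (u : V) := rfl

end fixed

end Cfsg.Agent.Lib.Helper28.T9
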