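import Mathlib
import Cfsg.Prelude.Def_Classical
import Cfsg.Agent.Lib.Helper28.TT.AsmB

/-!
# Project T9 (S5559), piece M9 : a generating triple of involutions in `SU₃(2)'`.
-/

set_option autoImplicit false

namespace Cfsg.Agent.Lib.Helper28.T9

open Matrix Cfsg.Agent.Lib.Helper28.TT

section

variable {F : Type*} [Field F]

theorem m9_MA_eq : monoM (Equiv.swap (0 : Fin 3) 1) (fun _ => (1 : F)) =
    !![0, 1, 0; 1, 0, 0; 0, 0, 1] := by
  ext i j
  fin_cases i <;> fin_cases j <;> simp [monoM_apply, Equiv.swap_apply_def]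

theorem m9_MB_eq : monoM (Equiv.swap (1 : Fin 3) 2) (fun _ => (1 : F)) =
    !![1, 0, 0; 0, 0, 1; 0, 1, 0] := by
  ext i j
  fin_cases i <;> fin_cases j <;> simp [monoM_apply, Equiv.swap_apply_def]

theorem m9_MC_eq (w : F) : monoM (Equiv.swap (0 : Fin 3) 1) (dvec 0 1 w) =
    !![0, w, 0; w⁻¹, 0, 0; 0, 0, 1] := by
  ext i j
  fin_cases i <;> fin_cases j <;> simp [monoM_apply, Equiv.swap_apply_def, dvec]

theorem m9_rel_aa : (!![0, 1, 0; 1, 0, 0; 0, 0, 1] : Matrix (Fin 3) (Fin 3) F) ^ 2 = 1 := by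
  rw [pow_two]
  ext i j
  fin_cases i <;> fin_cases j <;> simp [Matrix.mul_apply, Fin.sum_univ_three]

theorem m9_rel_bb : (!![1, 0, 0; 0, 0, 1; 0, 1, 0] : Matrix (Fin 3) (Fin 3) F) ^ 2 = 1 := by
  rw [pow_two]
  ext i j
  fin_cases i <;> fin_cases j <;> simp [Matrix.mul_apply, Fin.sum_univ_three]

theorem m9_rel_cc (w v : F) (hwv : w * v = 1) :
    (!![0, w, 0; v, 0, 0; 0, 0, 1] : Matrix (Fin 3) (Fin 3) F) ^ 2 = 1 := by
  have hvw : v * w = 1 := by rw [mul_comm]; exact hwv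
  rw [pow_two]
  ext i j
  fin_cases i <;> fin_cases j <;> simp [Matrix.mul_apply, Fin.sum_univ_three, hwv, hvw]

theorem m9_rel_ab : ((!![0, 1, 0; 1, 0, 0; 0, 0, 1] : Matrix (Fin 3) (Fin 3) F) *
    !![1, 0, 0; 0, 0, 1; 0, 1, 0]) ^ 3 = 1 := by
  rw [pow_succ, pow_two]
  ext i j
  fin_cases i <;> fin_cases j <;> simp [Matrix.mul_apply, Fin.sum_univ_three]

theorem m9_rel_bc (w v : F) (hwv : w * v = 1) :
    ((!![1, 0, 0; 0, 0, 1; 0, 1, 0] : Matrix (Fin 3) (Fin 3) F) *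
      !![0, w, 0; v, 0, 0; 0, 0, 1]) ^ 3 = 1 := by
  have hvw : v * w = 1 := by rw [mul_comm]; exact hwv
  rw [pow_succ, pow_two]
  ext i j
  fin_cases i <;> fin_cases j <;> simp [Matrix.mul_apply, Fin.sum_univ_three, hwv, hvw]

theorem m9_rel_ca (w v : F) (hw3 : w ^ 3 = 1) (hv3 : v ^ 3 = 1) :
    ((!![0, w, 0; v, 0, 0; 0, 0, 1] : Matrix (Fin 3) (Fin 3) F) *
      !![0, 1, 0; 1, 0, 0; 0, 0, 1]) ^ 3 = 1 := by
  rw [pow_succ, pow_two]
  ext i j
  fin_cases i <;> fin_cases j <;> simp [Matrix.mul_apply, Fin.sum_univ_three] <;> grind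

theorem m9_rel_4 (w v : F) (hwv : w * v = 1) :
    ((!![0, 1, 0; 1, 0, 0; 0, 0, 1] : Matrix (Fin 3) (Fin 3) F) *
      (!![1, 0, 0; 0, 0, 1; 0, 1, 0] * !![0, w, 0; v, 0, 0; 0, 0, 1] *
        !![1, 0, 0; 0, 0, 1; 0, 1, 0])) ^ 3 = 1 := by
  have hvw : v * w = 1 := by rw [mul_comm]; exact hwv
  rw [pow_succ, pow_two]
  ext i j
  fin_cases i <;> fin_cases j <;> simp [Matrix.mul_apply, Fin.sum_univ_three, hwv, hvw]

end

section

variable {F : Type*} [Field F] [Fintype F]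

theorem m9_swap_cases : ∀ x y : Fin 3, x ≠ y →
    Equiv.swap x y = Equiv.swap (0 : Fin 3) 1 ∨ Equiv.swap x y = Equiv.swap (1 : Fin 3) 2 ∨
      Equiv.swap x y = Equiv.swap (0 : Fin 3) 1 * Equiv.swap 1 2 * Equiv.swap 0 1 := by
  decide

/-- the subgroup generated by the triple contains the monomial subgroup -/
theorem m9_gen (hF : Fintype.card F = 4) (w : F) (hw : w ^ 2 + w + 1 = 0) (hw0 : w ≠ 0)
    (hall : ∀ x : F, x = 0 ∨ x = 1 ∨ x = w ∨ x = w + 1) :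
    monoSub F ≤ Subgroup.closure
      {pmE hF (Equiv.swap (0 : Fin 3) 1), pmE hF (Equiv.swap (1 : Fin 3) 2),
        mono hF (Equiv.swap (0 : Fin 3) 1) (dvec 0 1 w) (dvec_prod (by decide) hw0)} := by
  have h2 := two_eq_zero hF
  obtain ⟨K, hK⟩ : ∃ K : Subgroup ↥(Cfsg.SU 3 F 2), K = Subgroup.closure
      {pmE hF (Equiv.swap (0 : Fin 3) 1), pmE hF (Equiv.swap (1 : Fin 3) 2),
        mono hF (Equiv.swap (0 : Fin 3) 1) (dvec 0 1 w) (dvec_prod (by decide) hw0)} := ⟨_, rfl⟩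
  rw [← hK]
  have hA : pmE hF (Equiv.swap (0 : Fin 3) 1) ∈ K := by
    rw [hK]; exact Subgroup.subset_closure (by simp)
  have hB : pmE hF (Equiv.swap (1 : Fin 3) 2) ∈ K := by
    rw [hK]; exact Subgroup.subset_closure (by simp)
  have hC : mono hF (Equiv.swap (0 : Fin 3) 1) (dvec 0 1 w) (dvec_prod (by decide) hw0) ∈ K := by
    rw [hK]; exact Subgroup.subset_closure (by simp)
  have hswap : ∀ x y : Fin 3, pmE (F := F) hF (Equiv.swap x y) ∈ K := by
    intro x y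
    by_cases hxy : x = y
    · rw [hxy, Equiv.swap_self]
      have : pmE (F := F) hF (Equiv.refl (Fin 3)) = 1 := pmE_one hF
      rw [this]; exact Subgroup.one_mem _
    · rcases m9_swap_cases x y hxy with h | h | h
      · rw [h]; exact hA
      · rw [h]; exact hB
      · rw [h, ← pmE_mul, ← pmE_mul]
        exact Subgroup.mul_mem _ hA (Subgroup.mul_mem _ hB hA)
  have hpm : ∀ π : Equiv.Perm (Fin 3), pmE (F := F) hF π ∈ K := by
    intro π
    induction π using Equiv.Perm.swap_induction_on with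
    | one => rw [pmE_one]; exact Subgroup.one_mem _
    | swap_mul f x y _ ih =>
      rw [← pmE_mul]
      exact Subgroup.mul_mem _ ih (hswap x y)
  -- field facts
  have hwinv : w⁻¹ = w + 1 := by
    apply inv_eq_of_mul_eq_one_right
    have : w * (w + 1) = (w ^ 2 + w + 1) + 1 + 2 * 1 - 2 * 1 - 2 := by ring
    rw [this, hw, h2]; ring
  have hw1inv : (w + 1)⁻¹ = w := by rw [← hwinv, inv_inv]
  -- diagonal elements
  have hd01w : dgE hF (dvec 0 1 w) (dvec_prod (by decide) hw0) ∈ K := by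
    have h1 : dgE hF (dvec 0 1 w) (dvec_prod (by decide) hw0) =
        mono hF (Equiv.swap (0 : Fin 3) 1) (dvec 0 1 w) (dvec_prod (by decide) hw0) *
          pmE hF (Equiv.swap 0 1) := by
      unfold dgE pmE
      rw [mono_mul']
      exact mono_congr hF _ _ (by rw [Equiv.swap_mul_self]) (fun i => by simp)
    rw [h1]
    exact Subgroup.mul_mem _ hC hA
  have hd01 : ∀ (u : F) (hu : u ≠ 0), dgE hF (dvec 0 1 u) (dvec_prod (by decide) hu) ∈ K := by
    intro u hu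
    rcases hall u with h | h | h | h
    · exact absurd h hu
    · subst h
      have : dgE hF (dvec (0 : Fin 3) 1 (1 : F)) (dvec_prod (by decide) hu) = 1 := by
        unfold dgE
        rw [← mono_one hF]
        exact mono_congr hF _ _ rfl (fun i => by unfold dvec; fin_cases i <;> simp)
      rw [this]; exact Subgroup.one_mem _
    · subst h; exact hd01w
    · subst h
      have hinv : (dgE hF (dvec 0 1 w) (dvec_prod (by decide) hw0))⁻¹ =
          dgE hF (dvec 0 1 (w + 1)) (dvec_prod (by decide) hu) := by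
        apply inv_eq_of_mul_eq_one_right
        have hone : ∀ i, dvec (0 : Fin 3) 1 w i * dvec 0 1 (w + 1) i = 1 := by
          intro i
          unfold dvec
          fin_cases i
          · simp; rw [← hwinv]; exact mul_inv_cancel₀ hw0
          · simp; rw [hw1inv]; exact inv_mul_cancel₀ hw0
          · simp
        rw [dgE_mul hF _ _ _ _ (by simp [hone])]
        unfold dgE
        rw [← mono_one hF]
        exact mono_congr hF _ _ rfl hone
      rw [← hinv]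
      exact Subgroup.inv_mem _ hd01w
  have hd12 : ∀ (u : F) (hu : u ≠ 0), dgE hF (dvec 1 2 u) (dvec_prod (by decide) hu) ∈ K := by
    intro u hu
    obtain ⟨π, hπ⟩ : ∃ π : Equiv.Perm (Fin 3), π = Equiv.swap (0 : Fin 3) 1 * Equiv.swap 0 2 :=
      ⟨_, rfl⟩
    have hπ0 : π 0 = 2 := by rw [hπ]; decide
    have hπ1 : π 1 = 0 := by rw [hπ]; decide
    have hπ2 : π 2 = 1 := by rw [hπ]; decide
    have hcomp : ∀ i, dvec (0 : Fin 3) 1 u (π i) = dvec 1 2 u i := by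
      intro i
      fin_cases i
      · show dvec (0 : Fin 3) 1 u (π 0) = dvec 1 2 u 0
        rw [hπ0]; simp [dvec]
      · show dvec (0 : Fin 3) 1 u (π 1) = dvec 1 2 u 1
        rw [hπ1]; simp [dvec]
      · show dvec (0 : Fin 3) 1 u (π 2) = dvec 1 2 u 2
        rw [hπ2]; simp [dvec]
    have hprod' : ∏ i, dvec (0 : Fin 3) 1 u (π i) = 1 := by
      rw [Equiv.prod_comp π (dvec 0 1 u)]
      exact dvec_prod (by decide) hu
    have h1 := pm_dg_pm hF π (dvec 0 1 u) (dvec_prod (by decide) hu) hprod'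
    have h3 : dgE hF (fun i => dvec (0 : Fin 3) 1 u (π i)) hprod' =
        dgE hF (dvec 1 2 u) (dvec_prod (by decide) hu) := by
      unfold dgE
      exact mono_congr hF _ _ rfl hcomp
    rw [← h3, ← h1]
    exact Subgroup.mul_mem _ (Subgroup.mul_mem _ (hpm π) (hd01 u hu)) (hpm π⁻¹)
  intro A hA'
  obtain ⟨π, d, hd, rfl⟩ := exists_mono hF A hA'
  rw [mono_eq, dg_split]
  exact Subgroup.mul_mem _ (Subgroup.mul_mem _
    (hd01 _ (ne_zero_of_prod hd 0))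
    (hd12 _ (mul_ne_zero (ne_zero_of_prod hd 0) (ne_zero_of_prod hd 1))))
    (hpm π)

end

section

variable {F : Type*} [Field F] [Fintype F]

theorem m9_triple (hF : Fintype.card F = 4) :
    Nat.card ↥(commutator ↥(Cfsg.SU 3 F 2)) = 54 ∧
    ∃ a b c : ↥(commutator ↥(Cfsg.SU 3 F 2)), a ^ 2 = 1 ∧ b ^ 2 = 1 ∧ c ^ 2 = 1 ∧
      (a * b) ^ 3 = 1 ∧ (b * c) ^ 3 = 1 ∧ (c * a) ^ 3 = 1 ∧ (a * (b * c * b)) ^ 3 = 1 ∧
      Subgroup.closure ({a, b, c} : Set ↥(commutator ↥(Cfsg.SU 3 F 2))) = ⊤ := by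
  refine ⟨(comm_facts hF).1, ?_⟩
  obtain ⟨w, hw, hw0, hw1, hall⟩ := exists_omega hF
  have hw3 : w ^ 3 = 1 := pow_three hF hw0
  have hwi0 : w⁻¹ ≠ 0 := inv_ne_zero hw0
  have hwi3 : w⁻¹ ^ 3 = 1 := pow_three hF hwi0
  have hwv : w * w⁻¹ = 1 := mul_inv_cancel₀ hw0
  have hcm := commutator_eq_monoSub hF
  obtain ⟨A, hAdef⟩ : ∃ A : ↥(Cfsg.SU 3 F 2), A = pmE hF (Equiv.swap (0 : Fin 3) 1) := ⟨_, rfl⟩
  obtain ⟨B, hBdef⟩ : ∃ B : ↥(Cfsg.SU 3 F 2), B = pmE hF (Equiv.swap (1 : Fin 3) 2) := ⟨_, rfl⟩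
  obtain ⟨C, hCdef⟩ : ∃ C : ↥(Cfsg.SU 3 F 2),
      C = mono hF (Equiv.swap (0 : Fin 3) 1) (dvec 0 1 w) (dvec_prod (by decide) hw0) := ⟨_, rfl⟩
  have hmA : mat A = !![0, 1, 0; 1, 0, 0; 0, 0, 1] := by
    rw [hAdef]; unfold pmE; rw [mat_mono]; exact m9_MA_eq
  have hmB : mat B = !![1, 0, 0; 0, 0, 1; 0, 1, 0] := by
    rw [hBdef]; unfold pmE; rw [mat_mono]; exact m9_MB_eq
  have hmC : mat C = !![0, w, 0; w⁻¹, 0, 0; 0, 0, 1] := by
    rw [hCdef, mat_mono]; exact m9_MC_eq w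
  have hA : A ∈ commutator ↥(Cfsg.SU 3 F 2) := by
    rw [hcm, hAdef]; exact mono_mem hF _ _ _
  have hB : B ∈ commutator ↥(Cfsg.SU 3 F 2) := by
    rw [hcm, hBdef]; exact mono_mem hF _ _ _
  have hC : C ∈ commutator ↥(Cfsg.SU 3 F 2) := by
    rw [hcm, hCdef]; exact mono_mem hF _ _ _
  have hone : ∀ Y : ↥(Cfsg.SU 3 F 2), mat Y = 1 → Y = 1 := by
    intro Y hY
    apply mat_injective
    rw [hY, mat_one]
  have hsub : ∀ y : ↥(commutator ↥(Cfsg.SU 3 F 2)), mat (y : ↥(Cfsg.SU 3 F 2)) = 1 → y = 1 := by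
    intro y hy
    apply Subtype.ext
    exact hone _ hy
  refine ⟨⟨A, hA⟩, ⟨B, hB⟩, ⟨C, hC⟩, ?_, ?_, ?_, ?_, ?_, ?_, ?_, ?_⟩
  · apply hsub
    show mat (A ^ 2) = 1
    rw [mat_pow, hmA]; exact m9_rel_aa
  · apply hsub
    show mat (B ^ 2) = 1
    rw [mat_pow, hmB]; exact m9_rel_bb
  · apply hsub
    show mat (C ^ 2) = 1
    rw [mat_pow, hmC]; exact m9_rel_cc w w⁻¹ hwv
  · apply hsub
    show mat ((A * B) ^ 3) = 1
    rw [mat_pow, mat_mul, hmA, hmB]; exact m9_rel_ab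
  · apply hsub
    show mat ((B * C) ^ 3) = 1
    rw [mat_pow, mat_mul, hmB, hmC]; exact m9_rel_bc w w⁻¹ hwv
  · apply hsub
    show mat ((C * A) ^ 3) = 1
    rw [mat_pow, mat_mul, hmA, hmC]; exact m9_rel_ca w w⁻¹ hw3 hwi3
  · apply hsub
    show mat ((A * (B * C * B)) ^ 3) = 1
    rw [mat_pow, mat_mul, mat_mul, mat_mul, hmA, hmB, hmC]; exact m9_rel_4 w w⁻¹ hwv
  · -- generation
    have hgen := m9_gen hF w hw hw0 hall
    rw [← hAdef, ← hBdef, ← hCdef] at hgen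
    have hmap : (Subgroup.closure ({⟨A, hA⟩, ⟨B, hB⟩, ⟨C, hC⟩} :
        Set ↥(commutator ↥(Cfsg.SU 3 F 2)))).map (commutator ↥(Cfsg.SU 3 F 2)).subtype =
        Subgroup.closure {A, B, C} := by
      rw [MonoidHom.map_closure]
      congr 1
      ext x
      simp only [Set.mem_image, Set.mem_insert_iff, Set.mem_singleton_iff]
      constructor
      · rintro ⟨y, hy | hy | hy, rfl⟩
        · left; rw [hy]; rfl
        · right; left; rw [hy]; rfl
        · right; right; rw [hy]; rfl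
      · rintro (h | h | h)
        · exact ⟨⟨A, hA⟩, Or.inl rfl, h.symm⟩
        · exact ⟨⟨B, hB⟩, Or.inr (Or.inl rfl), h.symm⟩
        · exact ⟨⟨C, hC⟩, Or.inr (Or.inr rfl), h.symm⟩
    rw [eq_top_iff]
    intro x _
    have hx : (x : ↥(Cfsg.SU 3 F 2)) ∈ Subgroup.closure {A, B, C} := by
      apply hgen
      rw [← hcm]
      exact x.2
    rw [← hmap] at hx
    obtain ⟨y, hy, hyx⟩ := hx
    have : y = x := Subtype.ext hyx
    rw [← this]; exact hy

end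

/-- PIECE M9 : a generating triple of involutions in `SU₃(2)'`. -/
theorem su_triple : ∃ (F : Type) (_ : Field F) (_ : Fintype F), Fintype.card F = 4 ∧
    Nat.card ↥(commutator ↥(Cfsg.SU 3 F 2)) = 54 ∧
    ∃ a b c : ↥(commutator ↥(Cfsg.SU 3 F 2)), a ^ 2 = 1 ∧ b ^ 2 = 1 ∧ c ^ 2 = 1 ∧
      (a * b) ^ 3 = 1 ∧ (b * c) ^ 3 = 1 ∧ (c * a) ^ 3 = 1 ∧ (a * (b * c * b)) ^ 3 = 1 ∧
      Subgroup.closure ({a, b, c} : Set ↥(commutator ↥(Cfsg.SU 3 F 2))) = ⊤ := by
  have : Fact (Nat.Prime 2) := ⟨Nat.prime_two⟩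
  have hF : @Fintype.card (GaloisField 2 2) (Fintype.ofFinite _) = 4 := by
    rw [← @Nat.card_eq_fintype_card (GaloisField 2 2) (Fintype.ofFinite _),
      GaloisField.card 2 2 (by norm_num)]
    norm_num
  exact ⟨GaloisField 2 2, inferInstance, Fintype.ofFinite _, hF,
    @m9_triple (GaloisField 2 2) _ (Fintype.ofFinite _) hF⟩

end Cfsg.Agent.Lib.Helper28.T9
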