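import Mathlib
import Cfsg.Agent.Lib.Helper28.T9.Defs
import Cfsg.Agent.Lib.Helper13.T9B
import Cfsg.Agent.Lib.Helper13.T9C2c0
import Cfsg.Agent.Lib.Helper13.T9PL1
import Cfsg.Agent.Lib.Helper13.T9PL2
import Cfsg.Agent.Lib.Helper25.T9LA2
import Cfsg.Agent.Lib.Helper27.T9C2d
import Cfsg.Agent.Lib.helper2.T9PL3

set_option autoImplicit false

namespace Cfsg.Agent.Lib.Helper28.T9

universe u v

section

variable {X : Type u} [Group X]

/-- if `a` (an involution) inverts `t` and `g` centralises `t`, then `a g a` centralises `t` -/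
theorem nn_conj_cent (a t g : X) (haa : a * a = 1) (hta : a * t * a = t⁻¹)
    (hg : g ∈ Subgroup.centralizer {t}) : a * g * a ∈ Subgroup.centralizer {t} := by
  rw [Subgroup.mem_centralizer_singleton_iff] at hg ⊢
  have h1 : a * t = t⁻¹ * a := by
    have := congrArg (fun x => x * a) hta
    simp only [mul_assoc, haa, mul_one] at this
    exact this
  have h2 : t * a = a * t⁻¹ := by
    have := congrArg (fun x => a * x) hta
    simp only [← mul_assoc, haa, one_mul] at this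
    exact this
  have h3 : g * t⁻¹ = t⁻¹ * g := by
    have := congrArg (fun x => t⁻¹ * x * t⁻¹) hg
    simp only [mul_assoc, mul_inv_cancel, mul_one] at this
    simp only [← mul_assoc, inv_mul_cancel, one_mul] at this
    exact this.symm
  calc a * g * a * t = a * g * (a * t) := by group
    _ = a * g * (t⁻¹ * a) := by rw [h1]
    _ = a * (g * t⁻¹) * a := by group
    _ = a * (t⁻¹ * g) * a := by rw [h3]
    _ = (a * t⁻¹) * g * a := by group
    _ = (t * a) * g * a := by rw [h2]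
    _ = t * (a * g * a) := by group

/-- the plane subgroup is normalised by `a` -/
theorem nn_norm_closure (a b c : X) (haa : a * a = 1) (hbb : b * b = 1) (hcc : c * c = 1)
    (g : X) (hg : g ∈ Subgroup.closure ({a * b, a * c} : Set X)) :
    a * g * a ∈ Subgroup.closure ({a * b, a * c} : Set X) := by
  have hainv : a⁻¹ = a := inv_eq_of_mul_eq_one_left haa
  have hbinv : b⁻¹ = b := inv_eq_of_mul_eq_one_left hbb
  have hcinv : c⁻¹ = c := inv_eq_of_mul_eq_one_left hcc
  induction hg using Subgroup.closure_induction with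
  | mem x hx =>
    rcases hx with rfl | hx
    · have : a * (a * b) * a = (a * b)⁻¹ := by
        rw [mul_inv_rev, hainv, hbinv, ← mul_assoc a a b, haa, one_mul]
      rw [this]
      exact Subgroup.inv_mem _ (Subgroup.subset_closure (by simp))
    · rw [Set.mem_singleton_iff] at hx
      subst hx
      have : a * (a * c) * a = (a * c)⁻¹ := by
        rw [mul_inv_rev, hainv, hcinv, ← mul_assoc a a c, haa, one_mul]
      rw [this]
      exact Subgroup.inv_mem _ (Subgroup.subset_closure (by simp))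
  | one => rw [mul_one, haa]; exact Subgroup.one_mem _
  | mul x y _ _ hx hy =>
    have : a * (x * y) * a = (a * x * a) * (a * y * a) := by
      calc a * (x * y) * a = a * x * 1 * y * a := by group
        _ = a * x * (a * a) * y * a := by rw [haa]
        _ = (a * x * a) * (a * y * a) := by group
    rw [this]
    exact Subgroup.mul_mem _ hx hy
  | inv x _ hx =>
    have : a * x⁻¹ * a = (a * x * a)⁻¹ := by
      rw [mul_inv_rev, mul_inv_rev, hainv, mul_assoc]
    rw [this]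
    exact Subgroup.inv_mem _ hx

/-- square roots in groups of odd prime-power order -/
theorem nn_sqrt (g : X) (n : ℕ) (hg : g ^ 3 ^ n = 1) : ∃ m : ℕ, g ^ m * g ^ m = g := by
  have hodd' : ∀ j : ℕ, 3 ^ j % 2 = 1 := by
    intro j
    induction j with
    | zero => simp
    | succ k ih => rw [pow_succ, Nat.mul_mod, ih]
  have hodd := hodd' n
  refine ⟨(3 ^ n + 1) / 2, ?_⟩
  rw [← pow_add]
  have : (3 ^ n + 1) / 2 + (3 ^ n + 1) / 2 = 3 ^ n + 1 := by omega
  rw [this, pow_succ, hg, one_mul]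

/-- members of a cyclic group of order dividing 3 -/
theorem nn_zpowers_three (w : X) (hw3 : w ^ 3 = 1) :
    ∀ y ∈ Subgroup.zpowers w, y = 1 ∨ y = w ∨ y = w⁻¹ := by
  intro y hy
  obtain ⟨j, rfl⟩ := Subgroup.mem_zpowers_iff.mp hy
  have hj : w ^ j = w ^ (j % 3) := by
    conv_lhs => rw [← Int.mul_ediv_add_emod j 3]
    rw [zpow_add, zpow_mul]
    have : w ^ (3 : ℤ) = 1 := by exact_mod_cast hw3
    rw [this, one_zpow, one_mul]
  have h0 : 0 ≤ j % 3 := Int.emod_nonneg j (by norm_num)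
  have h3 : j % 3 < 3 := Int.emod_lt_of_pos j (by norm_num)
  rw [hj]
  obtain ⟨r, hr⟩ : ∃ r : ℤ, r = j % 3 := ⟨_, rfl⟩
  rw [← hr] at h0 h3 ⊢
  have : r = 0 ∨ r = 1 ∨ r = 2 := by omega
  rcases this with rfl | rfl | rfl
  · left; simp
  · right; left; simp
  · right; right
    have : w ^ (2 : ℤ) * w = 1 := by
      have : w ^ (2 : ℤ) = w ^ 2 := by exact_mod_cast zpow_natCast w 2
      rw [this, ← pow_succ]; exact hw3
    exact eq_inv_of_mul_eq_one_left this

/-- an element with `w³ = 1` and `w² = 1` is trivial -/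
theorem nn_eq_one_of (w : X) (hw3 : w ^ 3 = 1) (hw2 : w = w⁻¹) : w = 1 := by
  have h2 : w * w = 1 := by
    nth_rewrite 2 [hw2]
    exact mul_inv_cancel w
  have : w ^ 3 = w := by rw [pow_succ, pow_two, h2, one_mul]
  rw [← this]; exact hw3

/-- a 3-element normalising a group of order 3 centralises it -/
theorem nn_three_fix (w k : X) (hw3 : w ^ 3 = 1) (n : ℕ) (hk : k ^ 3 ^ n = 1)
    (hkw : k⁻¹ * w * k ∈ Subgroup.zpowers w) : k⁻¹ * w * k = w := by
  have hmem := nn_zpowers_three w hw3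
  rcases hmem _ hkw with h1 | h1 | h1
  · -- w = 1
    have : w = 1 := by
      have := congrArg (fun x => k * x * k⁻¹) h1
      simp only [mul_one, mul_inv_cancel] at this
      rw [← this]; group
    rw [this]; group
  · exact h1
  · -- k * k commutes with w, hence so does k
    have h2 : (k * k)⁻¹ * w * (k * k) = w := by
      calc (k * k)⁻¹ * w * (k * k) = k⁻¹ * (k⁻¹ * w * k) * k := by group
        _ = k⁻¹ * w⁻¹ * k := by rw [h1]
        _ = (k⁻¹ * w * k)⁻¹ := by group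
        _ = w := by rw [h1, inv_inv]
    obtain ⟨m, hm⟩ := nn_sqrt k n hk
    have h3 : (k * k) * w = w * (k * k) := by
      have := congrArg (fun x => (k * k) * x) h2
      rw [← this]; group
    have h4 : (k * k) ^ m = k := by
      rw [(Commute.refl k).mul_pow m]
      exact hm
    have h5 : Commute (k * k) w := h3
    have h6 : Commute k w := by
      rw [← h4]
      exact h5.pow_left m
    have h7 : k * w = w * k := h6
    calc k⁻¹ * w * k = k⁻¹ * (w * k) := by group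
      _ = k⁻¹ * (k * w) := by rw [h7]
      _ = w := by group

end

section

variable {X : Type u} [Group X] {V : Type v} [AddCommGroup V] [DistribMulAction X V] {E : Set X}

/-- every subgroup element fixes a vector fixed by generators -/
theorem nn_closure_fix (S : Set X) (w : V) (hS : ∀ s ∈ S, s • w = w) (g : X)
    (hg : g ∈ Subgroup.closure S) : g • w = w := by
  induction hg using Subgroup.closure_induction with
  | mem x hx => exact hS x hx
  | one => exact one_smul X w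
  | mul x y _ _ hx hy => rw [mul_smul, hy, hx]
  | inv x _ hx =>
    have := congrArg (fun u => x⁻¹ • u) hx
    simp only [inv_smul_smul] at this
    exact this.symm

/-- PIECE C2g : the sub-configuration cannot have nine points. -/
theorem no_nine [Finite X] (h : Cfg X V E) (hf : Faith X V) (a : X) (ha : a ∈ E) (t : X)
    (htP : t ∈ prodSub E) (hta : a * t * a = t⁻¹) (z : X) (hz3 : z ^ 3 = 1) (hz1 : z ≠ 1)
    (hzc : z ∈ Subgroup.center X)
    (hzu : ∀ w ∈ Subgroup.center X, w ^ 3 = 1 → w ∈ Subgroup.zpowers z)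
    (hcase2 : ∀ x ∈ prodSub E, (∀ g ∈ prodSub E, g * x = x * g) → a * x * a = x⁻¹ → x = 1)
    (hcomm : ∀ g ∈ prodSub E, t⁻¹ * g⁻¹ * t * g ∈ Subgroup.zpowers z)
    (hnc : ∃ g ∈ prodSub E, g * t ≠ t * g)
    (h9 : {e ∈ E | a * e ∈ Subgroup.centralizer {t}}.ncard = 9) : False := by
  obtain ⟨hidx, hmod, hcent, hCn, ⟨g₁, hg₁P, hg₁⟩, ⟨g₂, hg₂P, hg₂⟩⟩ :=
    index_three h a ha t htP hta z hz3 hz1 hzc hcomm hnc
  have hPn : (prodSub E).Normal := prodSub_normal h
  have haa : a * a = 1 := h.sq a ha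
  have hainv : a⁻¹ = a := inv_eq_of_mul_eq_one_left haa
  obtain ⟨E₀, hE₀⟩ : ∃ E₀ : Set X, E₀ = {e ∈ E | a * e ∈ Subgroup.centralizer {t}} := ⟨_, rfl⟩
  rw [← hE₀] at h9
  have hmemE₀ : ∀ e, e ∈ E₀ ↔ e ∈ E ∧ a * e ∈ Subgroup.centralizer {t} := by
    intro e; rw [hE₀]; exact Iff.rfl
  have hE₀fin : E₀.Finite := Set.toFinite E₀
  have haE₀ : a ∈ E₀ := by
    rw [hmemE₀]; refine ⟨ha, ?_⟩; rw [haa]; exact Subgroup.one_mem _
  have ht1 : t ≠ 1 := by
    intro h1
    obtain ⟨g, -, hg⟩ := hnc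
    apply hg; rw [h1, mul_one, one_mul]
  -- members of `E₀` invert `t`
  have hinvt : ∀ e ∈ E₀, e * t * e = t⁻¹ := by
    intro e he
    obtain ⟨heE, hec⟩ := (hmemE₀ e).mp he
    rw [Subgroup.mem_centralizer_singleton_iff] at hec
    have hee : e * e = 1 := h.sq e heE
    calc e * t * e = a * (a * e * t) * e := by
          rw [← mul_assoc, ← mul_assoc, haa, one_mul]
      _ = a * (t * (a * e)) * e := by rw [hec]
      _ = a * t * a * (e * e) := by group
      _ = t⁻¹ := by rw [hee, mul_one, hta]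
  -- `t` is a product of two members of `E`
  have hprod : ∀ e ∈ E₀, ∃ f ∈ E, t = e * f ∧ e ≠ f := by
    intro e he
    obtain ⟨heE, hec⟩ := (hmemE₀ e).mp he
    obtain ⟨f, hfE, hf⟩ := (inverted_iff h e heE t).mp ⟨htP, hinvt e he⟩
    refine ⟨f, hfE, hf, ?_⟩
    intro hef
    apply ht1
    rw [hf, ← hef]; exact h.sq e heE
  have ht3 : t ^ 3 = 1 := by
    obtain ⟨f, hfE, hf, -⟩ := hprod a haE₀
    rw [hf]; exact h.cube a ha f hfE
  -- members of `E₀` fix the fixed points of `t`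
  have hfixE₀ : ∀ e ∈ E₀, ∀ w : V, t • w = w → e • w = w := by
    intro e he w hw
    obtain ⟨heE, hec⟩ := (hmemE₀ e).mp he
    obtain ⟨f, hfE, hf, hne⟩ := hprod e he
    apply h.star e heE f hfE hne w
    rw [← hf]; exact hw
  -- choose `b`
  obtain ⟨b, hbE₀, hba⟩ : ∃ b ∈ E₀, b ≠ a := by
    by_contra hcon
    push Not at hcon
    have hsub : E₀ ⊆ {a} := fun e he => hcon e he
    have := Set.ncard_le_ncard hsub (Set.finite_singleton a)
    rw [Set.ncard_singleton] at this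
    omega
  obtain ⟨c, hcE₀, hca, hcb, hcl⟩ : ∃ c ∈ E₀, c ≠ a ∧ c ≠ b ∧ c ≠ a * b * a := by
    by_contra hcon
    push Not at hcon
    have hsub : E₀ ⊆ {a, b, a * b * a} := by
      intro e he
      by_cases h1 : e = a
      · left; exact h1
      by_cases h2 : e = b
      · right; left; exact h2
      right; right; exact hcon e he h1 h2
    have hfin3 : ({a, b, a * b * a} : Set X).Finite := Set.toFinite _
    have h1 := Set.ncard_le_ncard hsub hfin3
    have h2 : ({a, b, a * b * a} : Set X).ncard ≤ 3 := by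
      calc ({a, b, a * b * a} : Set X).ncard ≤ ({b, a * b * a} : Set X).ncard + 1 :=
            Set.ncard_insert_le _ _
        _ ≤ (({a * b * a} : Set X).ncard + 1) + 1 := by
            have := Set.ncard_insert_le b ({a * b * a} : Set X)
            omega
        _ = 3 := by rw [Set.ncard_singleton]
    omega
  obtain ⟨hbE, hbc⟩ := (hmemE₀ b).mp hbE₀
  obtain ⟨hcE, hcc⟩ := (hmemE₀ c).mp hcE₀
  have hbb : b * b = 1 := h.sq b hbE
  have hcc' : c * c = 1 := h.sq c hcE
  have hnoncomm := noncomm h hf a b c ha hbE hcE hba.symm hca hcb hcl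
  obtain ⟨hR27, zJ, hzJR, hzJ1, hzJ3, hazJ, hzJcen, hCRa, hZR⟩ :=
    plane_struct h a b c ha hbE hcE hnoncomm
  obtain ⟨hO9, hOE⟩ := plane_orbit h a b c ha hbE hcE hnoncomm
  obtain ⟨R, hR⟩ : ∃ R : Subgroup X, R = Subgroup.closure ({a * b, a * c} : Set X) := ⟨_, rfl⟩
  rw [← hR] at hR27 hzJR hzJcen hCRa hZR hO9 hOE
  have hRnorm : ∀ g ∈ R, a * g * a ∈ R := by
    intro g hg; rw [hR] at hg ⊢; exact nn_norm_closure a b c haa hbb hcc' g hg
  have hRleC : R ≤ Subgroup.centralizer {t} := by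
    rw [hR, Subgroup.closure_le]
    intro x hx
    rcases hx with rfl | hx
    · exact hbc
    · rw [Set.mem_singleton_iff] at hx; subst hx; exact hcc
  have hRleP : R ≤ prodSub E := by
    rw [hR, Subgroup.closure_le]
    intro x hx
    rcases hx with rfl | hx
    · exact Subgroup.subset_closure ⟨a, ha, b, hbE, rfl⟩
    · rw [Set.mem_singleton_iff] at hx; subst hx
      exact Subgroup.subset_closure ⟨a, ha, c, hcE, rfl⟩
  -- `R` fixes the fixed points of `t`
  have hfixR : ∀ r ∈ R, ∀ w : V, t • w = w → r • w = w := by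
    intro r hr w hw
    rw [hR] at hr
    apply nn_closure_fix _ w _ r hr
    intro s hs
    rcases hs with rfl | hs
    · rw [mul_smul, hfixE₀ b hbE₀ w hw, hfixE₀ a haE₀ w hw]
    · rw [Set.mem_singleton_iff] at hs; subst hs
      rw [mul_smul, hfixE₀ c hcE₀ w hw, hfixE₀ a haE₀ w hw]
  -- `z ∉ R`
  have hzR : z ∉ R := by
    intro hzR
    apply hz1
    apply hf
    intro w
    have hzcomm : ∀ g : X, g * z = z * g := fun g => (Subgroup.mem_center_iff.mp hzc) g
    obtain ⟨w₁, w₂, w₃, w₄, hw, hw₁, hw₂, hw₃, hw₄⟩ :=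
      sum_fixed h.two t z ht3 hz3 (hzcomm t) w
    have hz₁ : z • w₁ = w₁ := hfixR z hzR w₁ hw₁
    -- conjugates
    have hconjfix : ∀ (g : X) (t' : X) (u : V), g⁻¹ * t * g = t' → t' • u = u → z • u = u := by
      intro g t' u hgt hu
      have h1 : t • (g • u) = g • u := by
        have : t * g = g * t' := by rw [← hgt]; group
        rw [← mul_smul, this, mul_smul, hu]
      have h2 := hfixR z hzR (g • u) h1
      rw [← mul_smul, ← hzcomm g, mul_smul] at h2
      have := congrArg (fun x => g⁻¹ • x) h2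
      simp only [inv_smul_smul] at this
      exact this
    have hz₃ : z • w₃ = w₃ := hconjfix g₁ (t * z) w₃ hg₁ hw₃
    have hz₄ : z • w₄ = w₄ := hconjfix g₂ (t * z * z) w₄ hg₂ hw₄
    rw [hw, smul_add, smul_add, smul_add, hz₁, hw₂, hz₃, hz₄]
  -- the orbit
  obtain ⟨O, hO⟩ : ∃ O : Set X, O = {e : X | ∃ g ∈ R, e = g⁻¹ * a * g} := ⟨_, rfl⟩
  rw [← hO] at hO9 hOE
  have hOsub : O ⊆ E₀ := by
    intro e he
    have heE : e ∈ E := hOE he
    rw [hO] at he
    obtain ⟨g, hgR, rfl⟩ := he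
    rw [hmemE₀]
    refine ⟨heE, ?_⟩
    have h1 : a * (g⁻¹ * a * g) = (a * g⁻¹ * a) * g := by group
    rw [h1]
    apply Subgroup.mul_mem
    · exact nn_conj_cent a t g⁻¹ haa hta (Subgroup.inv_mem _ (hRleC hgR))
    · exact hRleC hgR
  have hOeq : O = E₀ := Set.eq_of_subset_of_ncard_le hOsub (by rw [h9, hO9]) hE₀fin
  have hinR : ∀ s ∈ prodSub E, s ∈ Subgroup.centralizer {t} → a * s * a = s⁻¹ → s ∈ R := by
    intro s hsP hsC hsinv
    obtain ⟨e, heE, hse⟩ := (inverted_iff h a ha s).mp ⟨hsP, hsinv⟩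
    have heE₀ : e ∈ E₀ := by
      rw [hmemE₀]; exact ⟨heE, by rw [← hse]; exact hsC⟩
    rw [← hOeq, hO] at heE₀
    obtain ⟨g, hgR, rfl⟩ := heE₀
    rw [hse]
    have h1 : a * (g⁻¹ * a * g) = (a * g⁻¹ * a) * g := by group
    rw [h1]
    exact Subgroup.mul_mem _ (hRnorm _ (Subgroup.inv_mem _ hgR)) hgR
  have hprodR : ∀ e₁ ∈ E₀, ∀ e₂ ∈ E₀, e₁ * e₂ ∈ R := by
    intro e₁ he₁ e₂ he₂
    rw [← hOeq, hO] at he₁ he₂
    obtain ⟨k₁, hk₁, rfl⟩ := he₁
    obtain ⟨k₂, hk₂, rfl⟩ := he₂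
    have h1 : k₁⁻¹ * a * k₁ * (k₂⁻¹ * a * k₂) = k₁⁻¹ * (a * (k₁ * k₂⁻¹) * a) * k₂ := by group
    rw [h1]
    exact Subgroup.mul_mem _ (Subgroup.mul_mem _ (Subgroup.inv_mem _ hk₁)
      (hRnorm _ (Subgroup.mul_mem _ hk₁ (Subgroup.inv_mem _ hk₂)))) hk₂
  have hCE₀ : ∀ k ∈ prodSub E, k ∈ Subgroup.centralizer {t} → ∀ e ∈ E₀, k⁻¹ * e * k ∈ E₀ := by
    intro k hkP hkC e he
    obtain ⟨heE, hec⟩ := (hmemE₀ e).mp he
    rw [hmemE₀]
    refine ⟨conj_mem h e heE k, ?_⟩
    have h1 : a * (k⁻¹ * e * k) = (a * k⁻¹ * a) * (a * e) * k := by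
      calc a * (k⁻¹ * e * k) = a * k⁻¹ * 1 * e * k := by group
        _ = a * k⁻¹ * (a * a) * e * k := by rw [haa]
        _ = (a * k⁻¹ * a) * (a * e) * k := by group
    rw [h1]
    exact Subgroup.mul_mem _ (Subgroup.mul_mem _
      (nn_conj_cent a t k⁻¹ haa hta (Subgroup.inv_mem _ hkC)) hec) hkC
  have hCR : ∀ k ∈ prodSub E, k ∈ Subgroup.centralizer {t} → ∀ r ∈ R, k⁻¹ * r * k ∈ R := by
    intro k hkP hkC r hr
    have hr' : r ∈ Subgroup.closure ({a * b, a * c} : Set X) := by rw [← hR]; exact hr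
    induction hr' using Subgroup.closure_induction with
    | mem x hx =>
      rcases hx with rfl | hx
      · have : k⁻¹ * (a * b) * k = (k⁻¹ * a * k) * (k⁻¹ * b * k) := by group
        rw [this]
        exact hprodR _ (hCE₀ k hkP hkC a haE₀) _ (hCE₀ k hkP hkC b hbE₀)
      · rw [Set.mem_singleton_iff] at hx; subst hx
        have : k⁻¹ * (a * c) * k = (k⁻¹ * a * k) * (k⁻¹ * c * k) := by group
        rw [this]
        exact hprodR _ (hCE₀ k hkP hkC a haE₀) _ (hCE₀ k hkP hkC c hcE₀)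
    | one => rw [mul_one, inv_mul_cancel]; exact Subgroup.one_mem _
    | mul x y hx' hy' hx hy =>
      have : k⁻¹ * (x * y) * k = (k⁻¹ * x * k) * (k⁻¹ * y * k) := by group
      rw [this]
      exact Subgroup.mul_mem _ (hx (by rw [hR]; exact hx')) (hy (by rw [hR]; exact hy'))
    | inv x hx' hx =>
      have : k⁻¹ * x⁻¹ * k = (k⁻¹ * x * k)⁻¹ := by group
      rw [this]; exact Subgroup.inv_mem _ (hx (by rw [hR]; exact hx'))
  have h3grp : ∀ k ∈ prodSub E, ∃ n : ℕ, k ^ 3 ^ n = 1 := by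
    intro k hk
    obtain ⟨n, hn⟩ := h.three ⟨k, hk⟩
    exact ⟨n, by simpa using congrArg Subtype.val hn⟩
  have hCzJ : ∀ k ∈ prodSub E, k ∈ Subgroup.centralizer {t} → k⁻¹ * zJ * k = zJ := by
    intro k hkP hkC
    obtain ⟨n, hn⟩ := h3grp k hkP
    apply nn_three_fix zJ k hzJ3 n hn
    apply hZR _ (hCR k hkP hkC zJ hzJR)
    intro r hr
    have hr' : k * r * k⁻¹ ∈ R := by
      have := hCR k⁻¹ (Subgroup.inv_mem _ hkP) (Subgroup.inv_mem _ hkC) r hr
      rwa [inv_inv] at this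
    have h1 := hzJcen _ hr'
    calc k⁻¹ * zJ * k * r = k⁻¹ * (zJ * (k * r * k⁻¹)) * k := by group
      _ = k⁻¹ * ((k * r * k⁻¹) * zJ) * k := by rw [h1]
      _ = r * (k⁻¹ * zJ * k) := by group
  have hzJP : zJ ∈ prodSub E := hRleP hzJR
  have hzJC : zJ ∈ Subgroup.centralizer {t} := hRleC hzJR
  have hCmem : ∀ g : X, ∀ k ∈ prodSub E, k ∈ Subgroup.centralizer {t} →
      g⁻¹ * k * g ∈ prodSub E ∧ g⁻¹ * k * g ∈ Subgroup.centralizer {t} := by
    intro g k hkP hkC
    have := hCn g k (Subgroup.mem_inf.mpr ⟨hkP, hkC⟩)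
    exact Subgroup.mem_inf.mp this
  -- conjugates of `zJ` are central in `C`
  have hconjcen : ∀ g : X, ∀ k ∈ prodSub E, k ∈ Subgroup.centralizer {t} →
      k * (g⁻¹ * zJ * g) = (g⁻¹ * zJ * g) * k := by
    intro g k hkP hkC
    obtain ⟨hk'P, hk'C⟩ := hCmem g⁻¹ k hkP hkC
    rw [inv_inv] at hk'P hk'C
    have h1 := hCzJ _ hk'P hk'C
    have h2 : (g * k * g⁻¹) * zJ = zJ * (g * k * g⁻¹) := by
      have := congrArg (fun x => (g * k * g⁻¹) * x) h1
      rw [← this]; group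
    calc k * (g⁻¹ * zJ * g) = g⁻¹ * ((g * k * g⁻¹) * zJ) * g := by group
      _ = g⁻¹ * (zJ * (g * k * g⁻¹)) * g := by rw [h2]
      _ = g⁻¹ * zJ * g * k := by group
  have hsq : ∀ g ∈ prodSub E, g⁻¹ * zJ * g = g * zJ * g⁻¹ := by
    intro g hgP
    obtain ⟨u₁, hu₁⟩ : ∃ u₁, u₁ = g⁻¹ * zJ * g := ⟨_, rfl⟩
    obtain ⟨u₂, hu₂⟩ : ∃ u₂, u₂ = g * zJ * g⁻¹ := ⟨_, rfl⟩
    have hu₁C := hCmem g zJ hzJP hzJC
    have hu₂C := hCmem g⁻¹ zJ hzJP hzJC
    rw [inv_inv] at hu₂C
    rw [← hu₁] at hu₁C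
    rw [← hu₂] at hu₂C
    have hu₁cen : ∀ k ∈ prodSub E, k ∈ Subgroup.centralizer {t} → k * u₁ = u₁ * k := by
      intro k hkP hkC; rw [hu₁]; exact hconjcen g k hkP hkC
    have hu₂cen : ∀ k ∈ prodSub E, k ∈ Subgroup.centralizer {t} → k * u₂ = u₂ * k := by
      intro k hkP hkC
      have := hconjcen g⁻¹ k hkP hkC
      rw [inv_inv] at this
      rw [hu₂]; exact this
    obtain ⟨c', hc'⟩ : ∃ c', c' = a * g * a * g := ⟨_, rfl⟩
    have hcP : c' ∈ prodSub E := by
      have h1 : a * g * a ∈ prodSub E := by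
        have := hPn.conj_mem g hgP a
        rwa [hainv] at this
      rw [hc']
      exact Subgroup.mul_mem _ h1 hgP
    have hcC : c' ∈ Subgroup.centralizer {t} := by rw [hc']; exact hmod g hgP
    have hcz := hCzJ _ hcP hcC
    have hau₁ : a * u₁ * a = u₂ := by
      rw [hu₁, hu₂]
      have e1 : a * (g⁻¹ * zJ * g) * a = (a * g⁻¹ * a) * (a * zJ * a) * (a * g * a) := by
        calc a * (g⁻¹ * zJ * g) * a = a * g⁻¹ * 1 * zJ * 1 * g * a := by group
          _ = a * g⁻¹ * (a * a) * zJ * (a * a) * g * a := by rw [haa]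
          _ = _ := by group
      have e2 : a * g⁻¹ * a = g * c'⁻¹ := by
        rw [hc', mul_inv_rev, mul_inv_rev, mul_inv_rev, hainv]; group
      have e3 : a * g * a = c' * g⁻¹ := by rw [hc']; group
      rw [e1, hazJ, e2, e3]
      calc g * c'⁻¹ * zJ * (c' * g⁻¹) = g * (c'⁻¹ * zJ * c') * g⁻¹ := by group
        _ = g * zJ * g⁻¹ := by rw [hcz]
    have hau₂ : a * u₂ * a = u₁ := by
      rw [← hau₁]
      calc a * (a * u₁ * a) * a = (a * a) * u₁ * (a * a) := by group
        _ = u₁ := by rw [haa, one_mul, mul_one]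
    have hu₁₂ : u₁ * u₂ = u₂ * u₁ := (hu₂cen u₁ hu₁C.1 hu₁C.2)
    obtain ⟨s, hs⟩ : ∃ s, s = u₁ * u₂⁻¹ := ⟨_, rfl⟩
    have hsP : s ∈ prodSub E := by
      rw [hs]; exact Subgroup.mul_mem _ hu₁C.1 (Subgroup.inv_mem _ hu₂C.1)
    have hsC : s ∈ Subgroup.centralizer {t} := by
      rw [hs]; exact Subgroup.mul_mem _ hu₁C.2 (Subgroup.inv_mem _ hu₂C.2)
    have hsinv : a * s * a = s⁻¹ := by
      rw [hs, mul_inv_rev, inv_inv]
      calc a * (u₁ * u₂⁻¹) * a = a * u₁ * 1 * u₂⁻¹ * a := by group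
        _ = a * u₁ * (a * a) * u₂⁻¹ * a := by rw [haa]
        _ = (a * u₁ * a) * (a⁻¹ * u₂ * a⁻¹)⁻¹ := by group
        _ = u₂ * u₁⁻¹ := by rw [hau₁, hainv, hau₂]
    have hsR : s ∈ R := hinR s hsP hsC hsinv
    have hsZ : s ∈ Subgroup.zpowers zJ := by
      apply hZR s hsR
      intro r hr
      have h1 := hu₁cen r (hRleP hr) (hRleC hr)
      have h2 := hu₂cen r (hRleP hr) (hRleC hr)
      have h2' : r * u₂⁻¹ = u₂⁻¹ * r := by
        have := congrArg (fun x => u₂⁻¹ * x * u₂⁻¹) h2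
        simp only [mul_assoc, mul_inv_cancel, mul_one] at this
        simp only [← mul_assoc, inv_mul_cancel, one_mul] at this
        exact this.symm
      rw [hs]
      calc u₁ * u₂⁻¹ * r = u₁ * (u₂⁻¹ * r) := by group
        _ = u₁ * (r * u₂⁻¹) := by rw [h2']
        _ = (u₁ * r) * u₂⁻¹ := by group
        _ = (r * u₁) * u₂⁻¹ := by rw [h1]
        _ = r * (u₁ * u₂⁻¹) := by group
    have hs1 : s = 1 := by
      rcases nn_zpowers_three zJ hzJ3 s hsZ with h1 | h1 | h1
      · exact h1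
      · exfalso
        apply hzJ1
        apply nn_eq_one_of zJ hzJ3
        rw [h1, hazJ] at hsinv
        exact hsinv
      · exfalso
        apply hzJ1
        apply nn_eq_one_of zJ hzJ3
        rw [h1, inv_inv] at hsinv
        have h2 : a * zJ⁻¹ * a = (a * zJ * a)⁻¹ := by
          rw [mul_inv_rev, mul_inv_rev, hainv, mul_assoc]
        rw [h2, hazJ] at hsinv
        exact hsinv.symm
    rw [← hu₁, ← hu₂]
    have := congrArg (fun x => x * u₂) hs1
    simp only [hs, inv_mul_cancel_right, one_mul] at this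
    exact this
  have hcenP : ∀ g ∈ prodSub E, g * zJ = zJ * g := by
    intro g hgP
    obtain ⟨n, hn⟩ := h3grp g hgP
    obtain ⟨m, hm⟩ := nn_sqrt g n hn
    have hkP : g ^ m ∈ prodSub E := Subgroup.pow_mem _ hgP m
    have h1 := hsq _ hkP
    rw [← hm]
    obtain ⟨k, hk⟩ : ∃ k, k = g ^ m := ⟨_, rfl⟩
    rw [← hk] at h1 ⊢
    calc k * k * zJ = k * (k * zJ * k⁻¹) * k := by group
      _ = k * (k⁻¹ * zJ * k) * k := by rw [h1]
      _ = zJ * (k * k) := by group
  have hzJcenX : zJ ∈ Subgroup.center X := center_le h a ha hcase2 zJ hzJP hcenP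
  have hzJz : zJ ∈ Subgroup.zpowers z := hzu zJ hzJcenX hzJ3
  apply hzR
  rcases nn_zpowers_three z hz3 zJ hzJz with h1 | h1 | h1
  · exact absurd h1 hzJ1
  · rw [← h1]; exact hzJR
  · have : z = zJ⁻¹ := by rw [h1, inv_inv]
    rw [this]; exact Subgroup.inv_mem _ hzJR

end

end Cfsg.Agent.Lib.Helper28.T9
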