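import Mathlib
import Cfsg.Agent.Lib.Helper28.T9.Defs
import Cfsg.Agent.Lib.Helper28.T9.NoNine
import Cfsg.Agent.Lib.Helper10.T9Q2
import Cfsg.Agent.Lib.Helper10.T9Q3
import Cfsg.Agent.Lib.Helper13.T9B
import Cfsg.Agent.Lib.Helper13.T9C2c0
import Cfsg.Agent.Lib.Helper13.T9Q1
import Cfsg.Agent.Lib.Helper19.T9C1
import Cfsg.Agent.Lib.Helper19.T9C2b
import Cfsg.Agent.Lib.Helper19.T9C2c
import Cfsg.Agent.Lib.Helper19.T9C2f
import Cfsg.Agent.Lib.Helper27.T9C2d

set_option autoImplicit false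

namespace Cfsg.Agent.Lib.Helper28.T9

universe u v

/-- the induction hypothesis of the main theorem -/
def IHyp (n : ℕ) : Prop :=
  ∀ (Y : Type u) [Group Y] [Finite Y] (W : Type v) [AddCommGroup W] [DistribMulAction Y W]
    (F : Set Y), Nat.card Y < n → Cfg Y W F → Faith Y W → F.ncard ≤ 9

section

variable {X : Type u} [Group X] [Finite X] {V : Type v} [AddCommGroup V] [DistribMulAction X V]
  {E : Set X}

theorem closure_fix (h : Cfg X V E) (v : V) (hv : ∀ a ∈ E, a • v = v) (g : X) : g • v = v := by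
  have hg : g ∈ Subgroup.closure E := by rw [h.gen]; trivial
  induction hg using Subgroup.closure_induction with
  | mem x hx => exact hv x hx
  | one => exact one_smul X v
  | mul x y _ _ hx hy => rw [mul_smul, hy, hx]
  | inv x _ hx =>
    have := congrArg (fun w => x⁻¹ • w) hx
    simp only [inv_smul_smul] at this
    exact this.symm

/-- reduction to the fixed points of a normal subgroup -/
theorem reduce_fixed (h : Cfg X V E) (IH : IHyp.{u, v} (Nat.card X))
    (M : Subgroup X) [M.Normal] (hM : M ≠ ⊥) :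
    (∀ v : V, (∀ m ∈ M, m • v = v) → ∀ g : X, g • v = v) ∨ E.ncard ≤ 9 := by
  by_cases hnt : ∃ a ∈ E, ∃ u : ↥(fixedSub M V), a • u ≠ u
  · right
    have h1 : Cfg X ↥(fixedSub M V) E := cfg_fixed h M
    obtain ⟨h2, h3, h4⟩ := cfg_quot h1 hnt
    rw [← h4]
    apply IH _ _ _ _ h2 h3
    -- the kernel contains `M`
    have hle : M ≤ kerAct X ↥(fixedSub M V) := by
      intro m hm u
      apply Subtype.ext
      rw [coe_smul_fixed]
      exact u.2 m hm
    have hne : kerAct X ↥(fixedSub M V) ≠ ⊥ := by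
      intro hbot
      apply hM
      rw [hbot] at hle
      exact le_bot_iff.mp hle
    have hcard := Subgroup.card_eq_card_quotient_mul_card_subgroup (kerAct X ↥(fixedSub M V))
    have h1lt : 1 < Nat.card ↥(kerAct X ↥(fixedSub M V)) := by
      rw [Subgroup.one_lt_card_iff_ne_bot]
      exact hne
    have hpos : 0 < Nat.card (X ⧸ kerAct X ↥(fixedSub M V)) := Nat.card_pos
    rw [hcard]
    nlinarith
  · left
    push Not at hnt
    intro v hv g
    apply closure_fix h v _ g
    intro a ha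
    have := hnt a ha ⟨v, hv⟩
    exact congrArg Subtype.val this

end

/-- the main theorem, by induction on the order of the group -/
theorem main_aux : ∀ (n : ℕ) (X : Type u) [Group X] [Finite X] (V : Type v) [AddCommGroup V]
    [DistribMulAction X V] (E : Set X), Nat.card X = n → Cfg X V E → Faith X V → E.ncard ≤ 9 := by
  intro n
  induction n using Nat.strong_induction_on with
  | _ n IHn =>
  intro X _ _ V _ _ E hn h hf
  have IH : IHyp.{u, v} (Nat.card X) := by
    intro Y _ _ W _ _ F hlt hY hYf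
    exact IHn (Nat.card Y) (by rw [← hn]; exact hlt) Y W F rfl hY hYf
  have hEfin : E.Finite := Set.toFinite E
  by_cases hE2 : ∃ a ∈ E, ∃ b ∈ E, b ≠ a
  swap
  · push Not at hE2
    have := (Set.ncard_le_one hEfin).mpr (fun a ha b hb => (hE2 a ha b hb).symm)
    omega
  obtain ⟨a, ha, b, hb, hba⟩ := hE2
  by_cases hc1 : ∃ x ∈ prodSub E, x ≠ 1 ∧ (∀ g ∈ prodSub E, g * x = x * g) ∧ a * x * a = x⁻¹
  · obtain ⟨x, hxP, hx1, hcen, hinv⟩ := hc1
    have := case_one h hf a ha x hxP hx1 hcen hinv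
    omega
  have hcase2 : ∀ x ∈ prodSub E, (∀ g ∈ prodSub E, g * x = x * g) → a * x * a = x⁻¹ → x = 1 := by
    intro x hx hcen hinv
    by_contra hx1
    exact hc1 ⟨x, hx, hx1, hcen, hinv⟩
  by_cases h3 : ∀ M : Subgroup X, M.Normal → M ≠ ⊥ →
      ∀ v : V, (∀ m ∈ M, m • v = v) → ∀ g : X, g • v = v
  swap
  · push Not at h3
    obtain ⟨M, hMn, hM, v, hv, g, hg⟩ := h3
    have := hMn
    rcases reduce_fixed h IH M hM with h4 | h4
    · exact absurd (h4 v hv g) hg
    · exact h4
  -- a central element of order three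
  have hPn : (prodSub E).Normal := prodSub_normal h
  have habP : a * b ∈ prodSub E := Subgroup.subset_closure ⟨a, ha, b, hb, rfl⟩
  have hab1 : a * b ≠ 1 := by
    intro h1
    apply hba
    have : b = a⁻¹ := (eq_inv_of_mul_eq_one_right h1)
    rw [this]
    exact inv_eq_of_mul_eq_one_left (h.sq a ha)
  obtain ⟨z, hzP, hzcP, hz3, hz1⟩ : ∃ z ∈ prodSub E, (∀ g ∈ prodSub E, g * z = z * g) ∧
      z ^ 3 = 1 ∧ z ≠ 1 := by
    have : Nontrivial ↥(prodSub E) := ⟨⟨⟨a * b, habP⟩, 1, fun h1 => hab1 (congrArg Subtype.val h1)⟩⟩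
    have : Fact (Nat.Prime 3) := ⟨by norm_num⟩
    have : Nontrivial ↥(Subgroup.center ↥(prodSub E)) := h.three.center_nontrivial
    obtain ⟨w, hw⟩ := exists_ne (1 : ↥(Subgroup.center ↥(prodSub E)))
    obtain ⟨k, hk⟩ := (h.three.to_subgroup (Subgroup.center ↥(prodSub E))) w
    -- choose the least k
    have hex : ∃ k : ℕ, w ^ 3 ^ k = 1 := ⟨k, hk⟩
    classical
    let k₀ := Nat.find hex
    have hk₀ : w ^ 3 ^ k₀ = 1 := Nat.find_spec hex
    have hk₀pos : k₀ ≠ 0 := by
      intro h0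
      rw [h0] at hk₀
      simp at hk₀
      exact hw hk₀
    obtain ⟨j, hj⟩ := Nat.exists_eq_succ_of_ne_zero hk₀pos
    have hjlt : ¬ w ^ 3 ^ j = 1 := Nat.find_min hex (by omega)
    refine ⟨((w ^ 3 ^ j : ↥(Subgroup.center ↥(prodSub E))) : ↥(prodSub E)), Subtype.prop _, ?_, ?_, ?_⟩
    · intro g hg
      have := (Subgroup.mem_center_iff.mp (w ^ 3 ^ j).2) ⟨g, hg⟩
      exact congrArg Subtype.val this
    · have : (w ^ 3 ^ j) ^ 3 = 1 := by
        rw [← pow_mul, ← pow_succ, show j + 1 = k₀ by omega]; exact hk₀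
      have := congrArg (fun y : ↥(Subgroup.center ↥(prodSub E)) => ((y : ↥(prodSub E)) : X)) this
      simpa using this
    · intro h1
      apply hjlt
      apply Subtype.ext
      apply Subtype.ext
      simpa using h1
  have hzc : z ∈ Subgroup.center X := center_le h a ha hcase2 z hzP hzcP
  have hzu : ∀ w ∈ Subgroup.center X, w ^ 3 = 1 → w ∈ Subgroup.zpowers z :=
    fun w hw hw3 => center_unique h hf h3 z w hzc hw hz3 hw3 hz1
  obtain ⟨t, htP, hta, hnc, hcc⟩ := exists_t h a ha ⟨b, hb, hba⟩ hcase2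
  have hcomm : ∀ g ∈ prodSub E, t⁻¹ * g⁻¹ * t * g ∈ Subgroup.zpowers z := by
    intro g hg
    have hcP : t⁻¹ * g⁻¹ * t * g ∈ prodSub E :=
      (prodSub E).mul_mem ((prodSub E).mul_mem ((prodSub E).mul_mem ((prodSub E).inv_mem htP)
        ((prodSub E).inv_mem hg)) htP) hg
    have hcen : t⁻¹ * g⁻¹ * t * g ∈ Subgroup.center X :=
      center_le h a ha hcase2 _ hcP (fun k hk => hcc g hg k hk)
    apply hzu _ hcen
    -- the cube of a central commutator
    obtain ⟨e, he, hte⟩ := (inverted_iff h a ha t).mp ⟨htP, hta⟩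
    have ht3 : t ^ 3 = 1 := by rw [hte]; exact h.cube a ha e he
    obtain ⟨c, hc⟩ : ∃ c : X, c = t⁻¹ * g⁻¹ * t * g := ⟨_, rfl⟩
    rw [← hc] at hcen ⊢
    have hcc' : ∀ y : X, c * y = y * c := fun y => (Subgroup.mem_center_iff.mp hcen y).symm
    have h1 : g⁻¹ * t * g = t * c := by rw [hc]; group
    have h2 : (g⁻¹ * t * g) ^ 3 = 1 := by
      have : (g⁻¹ * t * g) ^ 3 = g⁻¹ * t ^ 3 * g := by
        rw [pow_succ, pow_succ, pow_one, pow_succ, pow_succ, pow_one]; group
      rw [this, ht3]; group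
    rw [h1] at h2
    have h4 : (t * c) ^ 3 = t ^ 3 * c ^ 3 := by
      rw [pow_succ, pow_succ, pow_one, pow_succ, pow_succ, pow_one, pow_succ, pow_succ, pow_one]
      calc t * c * (t * c) * (t * c) = t * (c * t) * (c * t) * c := by group
        _ = t * (t * c) * (t * c) * c := by rw [hcc' t]
        _ = t * t * (c * t) * c * c := by group
        _ = t * t * (t * c) * c * c := by rw [hcc' t]
        _ = t * t * t * (c * c * c) := by group
    rw [h4, ht3, one_mul] at h2
    exact h2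
  obtain ⟨hidx, hinvC, hcentC, hCn, -, -⟩ :=
    index_three h a ha t htP hta z hz3 hz1 hzc hcomm hnc
  obtain ⟨hconj0, hcard0, ⟨k, hk⟩, hne0⟩ := sub_config h a ha t htP hta hidx hcentC
  obtain ⟨hs1, hs2, hs3⟩ := cfg_sub h hf {e ∈ E | a * e ∈ Subgroup.centralizer {t}}
    (fun e he => he.1) hconj0
  have hlt : Nat.card ↥(Subgroup.closure {e ∈ E | a * e ∈ Subgroup.centralizer {t}}) <
      Nat.card X := by
    have hlt' : Subgroup.closure {e ∈ E | a * e ∈ Subgroup.centralizer {t}} < ⊤ :=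
      lt_top_iff_ne_top.mpr hne0
    by_contra hge
    push Not at hge
    have heq : Subgroup.closure {e ∈ E | a * e ∈ Subgroup.centralizer {t}} = ⊤ :=
      Subgroup.eq_top_of_le_card _ hge
    exact hne0 heq
  have h9 := IH _ _ _ hlt hs1 hs2
  rw [hs3] at h9
  have hk2 : k ≤ 2 := by
    by_contra hk3
    have : 3 ^ 3 ≤ 3 ^ k := Nat.pow_le_pow_right (by norm_num) (by omega)
    omega
  by_cases h99 : {e ∈ E | a * e ∈ Subgroup.centralizer {t}}.ncard = 9
  · exact (no_nine h hf a ha t htP hta z hz3 hz1 hzc hzu hcase2 hcomm hnc h99).elim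
  · have hk2' : k ≠ 2 := by
      rintro rfl
      exact h99 (by rw [hk]; norm_num)
    have hk1 : k ≤ 1 := by omega
    have : {e ∈ E | a * e ∈ Subgroup.centralizer {t}}.ncard ≤ 3 := by
      rw [hk]
      calc 3 ^ k ≤ 3 ^ 1 := Nat.pow_le_pow_right (by norm_num) hk1
        _ = 3 := by norm_num
    omega

end Cfsg.Agent.Lib.Helper28.T9
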