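import Mathlib
import Cfsg.Statements.S5559
import Cfsg.Agent.S1265
import Cfsg.Agent.Lib.Helper18.PCore
import Cfsg.Agent.Lib.Helper28.T9.Main
import Cfsg.Agent.Lib.Helper27.T9R6
import Cfsg.Agent.Lib.Helper28.T9.M9
import Cfsg.Agent.Lib.helper2.T9R3
import Cfsg.Agent.Lib.helper2.T9R4
import Cfsg.Agent.Lib.helper2.T9R5a
import Cfsg.Agent.Lib.helper2.T9R5b
import Cfsg.Agent.Lib.helper6.T9R0

set_option autoImplicit false

namespace Cfsg.Agent.Lib.Helper28.T9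

universe u

theorem top_abs {H : Type u} [Group H] [Finite H] {E : Set H}
    (hE : Cfsg.IsThreeTranspositionClass E) (hE2 : ∃ a ∈ E, ∃ b ∈ E, a ≠ b)
    (Q : Subgroup H) [hQn : Q.Normal] (hQ : IsPGroup 2 Q)
    (h232 : ∃ P : Sylow 3 (H ⧸ Q), (P : Subgroup (H ⧸ Q)).Normal ∧
      ∃ k : ℕ, (P : Subgroup (H ⧸ Q)).index = 2 ^ k)
    (V : Type u) [AddCommGroup V] [DistribMulAction H V] (θ : ↥Q → V)
    (two : ∀ v : V, v + v = 0) (θmul : ∀ q q' : ↥Q, θ (q * q') = θ q + θ q')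
    (θsurj : Function.Surjective θ)
    (θeq : ∀ (g : H) (q : ↥Q) (hq : g * (q : H) * g⁻¹ ∈ Q), θ ⟨g * (q : H) * g⁻¹, hq⟩ = g • θ q)
    (hker : kerAct H V = Q) :
    Nonempty (H ⧸ Q ≃* Equiv.Perm (Fin 3)) ∨
      ∃ (F : Type) (_ : Field F) (_ : Fintype F), Fintype.card F = 4 ∧
        Nonempty (H ⧸ Q ≃* ↥(commutator ↥(Cfsg.SU 3 F 2))) := by
  subst hker
  obtain ⟨hnQ, hcube, hthree, a₀, ha₀, b₀, hb₀, hab₀⟩ := quot_facts hE hE2 (kerAct H V) hQ h232
  obtain ⟨⟨hord, h23⟩, ⟨d₀, hd₀, hconj⟩, hgen⟩ := hE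
  have hsqE : ∀ a ∈ E, a * a = 1 := by
    intro a ha
    have := hord a ha
    rw [← pow_two, ← this]
    exact pow_orderOf_eq_one a
  have hconjE : ∀ a ∈ E, ∀ b ∈ E, a * b * a ∈ E := by
    intro a ha b hb
    rw [hconj] at hb ⊢
    have hb' : IsConj d₀ b := hb
    show IsConj d₀ (a * b * a)
    refine hb'.trans ?_
    rw [isConj_iff]
    refine ⟨a, ?_⟩
    have : a⁻¹ = a := inv_eq_of_mul_eq_one_left (hsqE a ha)
    rw [this]
  -- the configuration
  have hcfg : Cfg (H ⧸ kerAct H V) V ((QuotientGroup.mk' (kerAct H V)) '' E) := by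
    refine ⟨?_, ?_, ?_, ?_, ?_, hthree, two, ?_⟩
    · rintro _ ⟨a, ha, rfl⟩ h1
      exact hnQ a ha ((QuotientGroup.eq_one_iff a).mp h1)
    · rintro _ ⟨a, ha, rfl⟩
      show ((a : H ⧸ kerAct H V)) * (a : H ⧸ kerAct H V) = 1
      rw [← QuotientGroup.mk_mul, hsqE a ha, QuotientGroup.mk_one]
    · rintro _ ⟨a, ha, rfl⟩ _ ⟨b, hb, rfl⟩
      exact ⟨a * b * a, hconjE a ha b hb, by simp⟩
    · rintro _ ⟨a, ha, rfl⟩ _ ⟨b, hb, rfl⟩
      exact hcube a ha b hb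
    · rw [← MonoidHom.map_closure, hgen, ← MonoidHom.range_eq_map,
        MonoidHom.range_eq_top.mpr (QuotientGroup.mk'_surjective _)]
    · rintro _ ⟨a, ha, rfl⟩ _ ⟨b, hb, rfl⟩ hne v hv
      have hab : a ≠ b := fun h => hne (by rw [h])
      have hv' : (a * b) • v = v := hv
      have hab3 : (a * b) ^ 3 = 1 := by
        rcases h23 a ha b hb with h2 | h3
        · exfalso
          have e2 : (((a * b : H) : H ⧸ kerAct H V)) ^ 2 = 1 := by
            rw [← QuotientGroup.mk_pow, h2, QuotientGroup.mk_one]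
          have e3 := hcube a ha b hb
          have e1 : ((a * b : H) : H ⧸ kerAct H V) = 1 := by
            have : (((a * b : H) : H ⧸ kerAct H V)) ^ 3 =
                (((a * b : H) : H ⧸ kerAct H V)) ^ 2 * ((a * b : H) : H ⧸ kerAct H V) := pow_succ _ 2
            rw [e3, e2, one_mul] at this
            exact this.symm
          apply hne
          have e4 : ((a : H) : H ⧸ kerAct H V) * ((b : H) : H ⧸ kerAct H V) = 1 := by
            rw [← QuotientGroup.mk_mul]; exact e1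
          have e5 : ((b : H) : H ⧸ kerAct H V) * ((b : H) : H ⧸ kerAct H V) = 1 := by
            rw [← QuotientGroup.mk_mul, hsqE b hb, QuotientGroup.mk_one]
          show ((a : H) : H ⧸ kerAct H V) = ((b : H) : H ⧸ kerAct H V)
          calc ((a : H) : H ⧸ kerAct H V) = (a : H ⧸ kerAct H V) * ((b : H ⧸ kerAct H V) * b) := by
                rw [e5, mul_one]
            _ = ((a : H ⧸ kerAct H V) * b) * b := by rw [mul_assoc]
            _ = b := by rw [e4, one_mul]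
        · exact h3
      exact star_of_module ⟨⟨hord, h23⟩, ⟨d₀, hd₀, hconj⟩, hgen⟩ (kerAct H V) hQ V θ two θmul θsurj
        θeq a b ha hb hab hab3 v hv'
  have hfaith : Faith (H ⧸ kerAct H V) V := by
    intro g hg
    obtain ⟨g₀, rfl⟩ := QuotientGroup.mk_surjective g
    exact (QuotientGroup.eq_one_iff g₀).mpr (fun v => hg v)
  have h9 : ((QuotientGroup.mk' (kerAct H V)) '' E).ncard ≤ 9 :=
    main_aux _ _ V _ rfl hcfg hfaith
  have haE : ((a₀ : H) : H ⧸ kerAct H V) ∈ (QuotientGroup.mk' (kerAct H V)) '' E := ⟨a₀, ha₀, rfl⟩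
  have hbE : ((b₀ : H) : H ⧸ kerAct H V) ∈ (QuotientGroup.mk' (kerAct H V)) '' E := ⟨b₀, hb₀, rfl⟩
  by_cases hline : ∀ c ∈ (QuotientGroup.mk' (kerAct H V)) '' E,
      c = (a₀ : H ⧸ kerAct H V) ∨ c = (b₀ : H ⧸ kerAct H V) ∨
        c = (a₀ : H ⧸ kerAct H V) * b₀ * a₀
  · left
    exact line_case hcfg _ _ haE hbE hab₀ hline
  · right
    push Not at hline
    obtain ⟨c, hcE, hca, hcb, hcl⟩ := hline
    obtain ⟨hgen3, h54⟩ := plane_case hcfg hfaith h9 _ _ c haE hbE hcE hab₀ hca hcb hcl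
    obtain ⟨F, iF, iFF, hF4, hc54, a', b', c', ha', hb', hc', hab', hbc', hca', h4', hg'⟩ := su_triple
    refine ⟨F, iF, iFF, hF4, ?_⟩
    have sq2 : ∀ x ∈ (QuotientGroup.mk' (kerAct H V)) '' E, x ^ 2 = 1 := by
      intro x hx; rw [pow_two]; exact hcfg.sq x hx
    exact iso_of_triples h54 hc54 _ _ c a' b' c' (sq2 _ haE) (sq2 _ hbE) (sq2 _ hcE)
      (hcfg.cube _ haE _ hbE) (hcfg.cube _ hbE _ hcE) (hcfg.cube _ hcE _ haE)
      (hcfg.cube _ haE _ (hcfg.conj _ hbE _ hcE)) hgen3 ha' hb' hc' hab' hbc' hca' h4' hg'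

end Cfsg.Agent.Lib.Helper28.T9

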